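import Cfsg.Agent.TH.R1Id.N
import Cfsg.Agent.S1146
import Cfsg.Agent.S0806
import Cfsg.Agent.S2148
import Cfsg.Agent.S2149
import Cfsg.Agent.S0144
import Cfsg.Agent.S0494
import Cfsg.Agent.S1069
import Cfsg.Agent.H957.CfRankOne
import Cfsg.Agent.H680.Six.Card
import Cfsg.Agent.ClassicalGeometry.PSL2Basic
import Cfsg.Agent.LieClassical.PSLTwoAlt
import Cfsg.Agent.SmallSimple.PRQb

/-!
# S3541, `boxR1Id : BoxR1Id` (helper53)
-/

set_option autoImplicit false

namespace Cfsg.Agent.TH.R1Id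

open Cfsg Subgroup Cfsg.Agent.FixBN Own

variable {K : Type} [Group K] [Finite K] {p u : ℕ}

/-- the decidable part of the data -/
def Ok (N u : ℕ) : Prop :=
  2 ≤ u ∧ u * (u + 1) ∣ N ∧ Nat.gcd u (N / (u * (u + 1))) = 1 ∧
    ∀ s ∈ [3, 5, 7, 11], s ∣ N / (u * (u + 1)) → ∃ c < u, c ∣ u ∧ u % s = c % s

omit [Finite K] in
theorem Dat.dvd (h : Dat K p u) : p ∣ u := by
  obtain ⟨k, hk, rfl⟩ := h.pow
  exact dvd_pow_self p (by omega)

omit [Finite K] in
theorem Dat.ok (hp : p.Prime) (h : Dat K p u) {N : ℕ} (hN : Nat.card K = N) : Ok N u := by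
  obtain ⟨k, hk, hu⟩ := h.pow
  obtain ⟨e, h1, h2, h3⟩ := h.ord
  have h4 : 2 ≤ u := hu ▸ Nat.one_lt_pow (by omega) hp.one_lt
  have h5 : N / (u * (u + 1)) = e := by rw [← hN, h1, Nat.mul_div_cancel_left _ (by positivity)]
  refine ⟨h4, ⟨e, hN ▸ h1⟩, ?_, fun s hs h6 => ?_⟩
  · rw [h5, hu]
    exact Nat.Coprime.pow_left _ ((Nat.Prime.coprime_iff_not_dvd hp).2 h2)
  · have h7 : s.Prime := by
      simp only [List.mem_cons, List.not_mem_nil, or_false] at hs
      rcases hs with rfl | rfl | rfl | rfl <;> norm_num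
    obtain ⟨c, h8, h9, h10⟩ := h3 s h7 (h5 ▸ h6)
    exact ⟨c, h9, h8, h10⟩

theorem Ok.lt {N u b : ℕ} (h : Ok N u) (h0 : 0 < N) (hb : N < b * b) : u < b := by
  have := Nat.le_of_dvd h0 h.2.1
  nlinarith

theorem ok60 : ∀ u < 8, Ok 60 u → u = 4 ∨ u = 5 := by unfold Ok; decide
theorem ok168 : ∀ u < 13, Ok 168 u → u = 7 := by unfold Ok; decide
theorem ok360 : ∀ u < 19, Ok 360 u → u = 9 := by unfold Ok; decide
theorem ok660 : ∀ u < 26, Ok 660 u → u = 11 := by unfold Ok; decide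
theorem ok13 : ¬ Ok 29120 13 := by unfold Ok; decide
theorem ok126000 : ∀ u < 355, 49 ≤ u → u * (u + 1) ∣ 126000 → u = 125 := by decide +kernel

theorem sixty [IsSimpleGroup K] (hp : p.Prime) (h : Dat K p u) (hN : Nat.card K = 60) : IsLieTypeChar p K := by
  have h1 := h.ok hp hN
  rcases ok60 u (h1.lt (by norm_num) (by norm_num)) h1 with rfl | rfl
  · obtain rfl : p = 2 := eq_of_dvd hp Nat.prime_two (hp.dvd_of_dvd_pow (n := 2) h.dvd)
    have : Fact (Nat.Prime 2) := ⟨hp⟩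
    have : Fintype (GaloisField 2 2) := Fintype.ofFinite _
    have h2 : Fintype.card (GaloisField 2 2) = 4 := by
      rw [← Nat.card_eq_fintype_card, GaloisField.card 2 2 two_ne_zero]
      rfl
    obtain ⟨e⟩ := S0494.result hN
    obtain ⟨e'⟩ := LieClassical.PSLTwoAlt.psl_two_equiv_alternating (F := GaloisField 2 2) (n := 5) (by rw [h2]) (by
      have h3 := ClassicalGeometry.PSL2Basic.card_PSL2_even (F := GaloisField 2 2) (by rw [h2]; decide)
      rw [h2] at h3
      convert congrArg (2 * ·) h3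
      rfl)
    exact Or.inl ⟨GaloisField 2 2, inferInstance, this, inferInstance, 2, le_rfl, fun _ => h2.ge, ⟨e.trans e'.symm⟩⟩
  · obtain rfl : p = 5 := eq_of_dvd hp Nat.prime_five h.dvd
    obtain ⟨F, _, _, hF, he⟩ := SmallSimple.PRQb.psl_five_of_card hN
    have : Fact (Nat.Prime 5) := ⟨hp⟩
    exact Or.inl ⟨F, inferInstance, inferInstance, charP_of_card_eq_prime hF, 2, le_rfl, fun _ => by omega, he⟩

theorem charP_of_dvd {F : Type} [Field F] [Fintype F] (hp : p.Prime) (h : p ∣ Fintype.card F) : CharP F p := by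
  obtain ⟨r, hr, n, h1, h2⟩ := FiniteField.card' F
  rw [h2] at h
  rwa [eq_of_dvd hp h1 (hp.dvd_of_dvd_pow h)]

theorem case_L2 [IsSimpleGroup K] (hns : ¬ Group.IsSolvable K) (hp : p.Prime) (h : Dat K p u) {F : Type} [Field F]
    [Fintype F] (e : K ≃* Matrix.ProjectiveSpecialLinearGroup (Fin 2) F) : IsLieTypeChar p K := by
  have hN := ClassicalGeometry.PSL2Basic.card_PSL2_gcd (F := F)
  rw [← Nat.card_congr e.toEquiv] at hN
  obtain ⟨a, ha⟩ : ∃ a, Fintype.card F = a + 1 := ⟨Fintype.card F - 1, by have := Fintype.one_lt_card (α := F); omega⟩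
  have ha0 : 1 ≤ a := by have := Fintype.one_lt_card (α := F); omega
  rw [ha, Nat.add_sub_cancel, show (a + 1) ^ 2 - 1 = a * (a + 2) by
    rw [show (a + 1) ^ 2 = a * (a + 2) + 1 by ring, Nat.add_sub_cancel]] at hN
  have h1 : a ≠ 1 := by
    rintro rfl
    exact hns (S0144.result 2 3 1 1 Nat.prime_two Nat.prime_three (by norm_num at hN ⊢; omega))
  have h2 : a ≠ 2 := by
    rintro rfl
    exact hns (S0144.result 2 3 2 1 Nat.prime_two Nat.prime_three (by norm_num at hN ⊢; omega))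
  by_cases hq : p ∣ a + 1
  · exact Or.inl ⟨F, inferInstance, inferInstance, charP_of_dvd hp (ha ▸ hq), 2, le_rfl, fun _ => by omega, ⟨e⟩⟩
  by_cases h4 : a = 4
  · subst h4
    exact sixty hp h (by norm_num at hN; omega)
  by_cases h3 : a = 3
  · subst h3
    exact sixty hp h (by norm_num at hN; omega)
  exfalso
  have hd := h.dvd
  by_cases h6 : a = 6
  · subst h6
    have h7 := h.ok hp (N := 168) (by norm_num at hN; omega)
    rw [ok168 u (h7.lt (by norm_num) (by norm_num)) h7] at hd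
    exact hq hd
  by_cases h8 : a = 8
  · subst h8
    have h7 := h.ok hp (N := 360) (by norm_num at hN; omega)
    rw [ok360 u (h7.lt (by norm_num) (by norm_num)) h7] at hd
    exact hq hd
  by_cases h10 : a = 10
  · subst h10
    have h7 := h.ok hp (N := 660) (by norm_num at hN; omega)
    rw [ok660 u (h7.lt (by norm_num) (by norm_num)) h7] at hd
    exact hq hd
  obtain ⟨B, hB, hi⟩ := (h.of_equiv e).idx
  have h11 := (S0806.result ha (by simp only [Finset.mem_insert, Finset.mem_singleton]; omega)).1 B hB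
  have h12 := (h.ok hp rfl).2.1
  obtain ⟨k, -, rfl⟩ := h.pow
  exact h3 (num_L2 hp hq (by omega) rfl hN h12 (by omega)).1

theorem case_U3 (hns : ¬ Group.IsSolvable K) (hp : p.Prime) (h : Dat K p u) {F : Type} [Field F]
    [Fintype F] {q : ℕ} (hF : Fintype.card F = q ^ 2) (e : K ≃* PSU 3 F q) : IsLieTypeChar p K := by
  have hN := H680.Six.psu3_card hF
  rw [← Nat.card_congr e.toEquiv] at hN
  have h0 : 2 ≤ q := by
    have := Fintype.one_lt_card (α := F)
    by_contra h0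
    have : q ≤ 1 := by omega
    nlinarith
  have h2 : q ≠ 2 := by
    rintro rfl
    exact hns (S0144.result 2 3 3 2 Nat.prime_two Nat.prime_three (by norm_num at hN ⊢; omega))
  by_cases hq : p ∣ q
  · exact Or.inr (Or.inr (Or.inl ⟨F, inferInstance, inferInstance, charP_of_dvd hp (hF ▸ dvd_pow hq two_ne_zero), 3, q,
      hF, le_rfl, fun h3 => h2 h3.2, ⟨e⟩⟩))
  exfalso
  obtain ⟨B, hB, hi⟩ := (h.of_equiv e).idx
  by_cases h5 : q = 5
  · subst h5
    have h7 := h.ok hp (N := 126000) (by norm_num at hN; omega)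
    have h8 := (S2149.result hF).1 B hB
    have hd := h.dvd
    rw [ok126000 u (h7.lt (by norm_num) (by norm_num)) (by omega) h7.2.1] at hd
    exact hq (hp.dvd_of_dvd_pow (n := 3) hd)
  have h11 := (S2148.result q hF (by omega) h5).1 B hB
  have h12 := (h.ok hp rfl).2.1
  obtain ⟨k, -, rfl⟩ := h.pow
  obtain ⟨a, rfl⟩ : ∃ a, q = a + 1 := ⟨q - 1, by omega⟩
  refine num_U3 hp hq (by omega) rfl ?_ h12 (by omega)
  rw [hN, show (a + 1) ^ 2 - 1 = a * (a + 2) by rw [show (a + 1) ^ 2 = a * (a + 2) + 1 by ring, Nat.add_sub_cancel]]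
  ring

theorem case_Sz [IsSimpleGroup K] (hp : p.Prime) (h : Dat K p u) (hK : Lie.IsoSuzuki K) : p = 2 := by
  by_contra hp2
  obtain ⟨F, _, _, m, hm, hF, ⟨e⟩⟩ := hK
  have : Finite ↥(Lie.Sz F (2 ^ (m + 1))) := Finite.of_equiv _ e.toEquiv
  have hN := (S1163.result hm hF).1
  rw [← Nat.card_congr e.toEquiv] at hN
  obtain ⟨B, hB, hi⟩ := (h.of_equiv e).idx
  have h11 := H957.CfRankOne.sz_index hm hF (e.isSimpleGroup_congr.1 inferInstance) B hB
  have h12 := h.ok hp hN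
  obtain ⟨k, -, rfl⟩ := h.pow
  rw [hF, hi] at h11
  obtain ⟨h1, h2⟩ := num_Sz hp hp2 rfl rfl hm ((dvd_mul_right _ _).trans h12.2.1) h11
  rw [h1, h2] at h12
  exact ok13 h12

theorem case_Ree [IsSimpleGroup K] (hp : p.Prime) (h : Dat K p u) (hK : Lie.IsoRee K) : p = 3 := by
  classical
  by_contra hp3
  obtain ⟨F, _, _, m, hm, hF, ⟨e⟩⟩ := hK
  have : Finite ↥(Lie.twistedG2 F (3 ^ m)) := Finite.of_equiv _ e.toEquiv
  have : IsSimpleGroup ↥(Lie.twistedG2 F (3 ^ m)) := e.isSimpleGroup_congr.1 inferInstance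
  have hN := S1069.result hF
  rw [← Nat.card_congr e.toEquiv] at hN
  obtain ⟨B, hB, hi⟩ := (h.of_equiv e).idx
  have D := LieRecognition.ReeFinal.data hF
  have : CharP F 3 := LieRecognition.ReeAbs.charP_three hF
  obtain ⟨f, t₀, T⟩ := LieRecognition.ReeSetup.exists_setup D hF (S1116.result hF hm)
    (LieRecognition.ReeSetup.local_of_data D hF)
  have h11 := H121.ReeMin.main (permRep ℂ _ (↥(Lie.twistedG2 F (3 ^ m)) ⧸ B)) D hF
    (fun x h1 h2 => isConj_iff.mpr (T.conjG x h1 h2)) (H957.CfRankOne.exists_ne_one B hB)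
  rw [H957.CfRankOne.finrank_perm, hi] at h11
  have h12 := h.ok hp hN
  obtain ⟨k, -, rfl⟩ := h.pow
  exact num_Ree hp hp3 rfl hm h12.2.1 h11

theorem main [IsSimpleGroup K] [Group.IsPerfect K] (hp : p.Prime) {P : BNPair K} {U : Subgroup K} (h : Split P p U)
    (hS : P.S.Nonempty) (ht : Tr U) : IsLieTypeChar p K := by
  have : Fact p.Prime := ⟨hp⟩
  have hns : ¬ Group.IsSolvable K := Group.IsPerfect.not_isSolvable K
  have hZ : center K = ⊥ := (IsSimpleGroup.eq_bot_or_eq_top_of_normal (center K) inferInstance).resolve_right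
    fun h1 => hns (Group.isSolvable_of_comm fun a b => mem_center_iff.1 (h1 ▸ mem_top b) a)
  have hD := dat hZ h ht hS
  rcases S1146.result P (rank_one h ht hS) (isSplit h) with ⟨F, _, _, ⟨e⟩⟩ | ⟨F, _, _, q, hF, ⟨e⟩⟩ | h1 | h1
  · exact case_L2 hns hp hD e
  · exact case_U3 hns hp hD hF e
  · exact Or.inr (Or.inr (Or.inr (Or.inr (Or.inr (Or.inr (Or.inr (Or.inr (Or.inl ⟨case_Sz hp hD h1, h1⟩))))))))
  · exact Or.inr (Or.inr (Or.inr (Or.inr (Or.inr (Or.inr (Or.inr (Or.inr (Or.inr (Or.inr ⟨case_Ree hp hD h1, h1⟩)))))))))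

end Cfsg.Agent.TH.R1Id

namespace Cfsg.Agent.TH

open R1Id

/-- **R1ID** -/
theorem boxR1Id : BoxR1Id := by
  intro _ G _ _ p E U hp hE ⟨P, V, hS, h⟩ _ hU hUp hsyl hspl
  have : Fact p.Prime := ⟨hp⟩
  have := hE.1
  have := hE.2
  have hf := QuotientGroup.mk'_surjective (Subgroup.center E)
  obtain ⟨k, hk⟩ := syl_quot _ hf hsyl h.isP
  have h1 := H979.SplitAut.eq_of_le h (isPGroup_cj ((hUp.comap_subtype (K := E)).map _) k) hk
  exact R1Id.main hp h hS (h1 ▸ (tr_quot _ hf hU hspl).conj k)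

end Cfsg.Agent.TH
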