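import Cfsg.Agent.TH.BN
import Cfsg.Agent.H979.SplitAut
import Cfsg.Agent.H805.WandRankOne
import Cfsg.Agent.J3.Fix
import Cfsg.Prelude.Def_LieRecognition

/-!
# S3541, `BoxR1Id`: the group theory (helper53)

* `Tr U` : `U` is transitive on its other conjugates; `tr_quot` : it passes to `E / Z(E)`;
* `rank_one`, `dat` : the pair has rank one, the numerical data.
-/

set_option autoImplicit false

namespace Cfsg.Agent.TH.R1Id

open Cfsg Subgroup Cfsg.Agent.FixBN Own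

/-- `U` is transitive on its other conjugates -/
def Tr {K : Type*} [Group K] (U : Subgroup K) : Prop :=
  ∀ g g' : K, cj g U ≠ U → cj g' U ≠ U → ∃ x ∈ U, cj x (cj g U) = cj g' U

/-- the numerical data -/
structure Dat (K : Type*) [Group K] (p u : ℕ) : Prop where
  pow : ∃ k, 1 ≤ k ∧ u = p ^ k
  idx : ∃ B : Subgroup K, B ≠ ⊤ ∧ B.index = u + 1
  ord : ∃ h, Nat.card K = u * (u + 1) * h ∧ ¬ p ∣ h ∧ ∀ s, s.Prime → s ∣ h → ∃ c, c ∣ u ∧ c < u ∧ u ≡ c [MOD s]

theorem Dat.of_equiv {K K' : Type*} [Group K] [Group K'] {p u : ℕ} (h : Dat K p u) (e : K ≃* K') : Dat K' p u := by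
  obtain ⟨B, h1, h2⟩ := h.idx
  refine ⟨h.pow, ⟨B.map e.toMonoidHom, fun h3 => h1 ?_, (index_map_equiv B e).trans h2⟩,
    Nat.card_congr e.toEquiv ▸ h.ord⟩
  rw [← index_eq_one, ← index_map_equiv B e]
  exact index_eq_one.2 h3

theorem Tr.conj {K : Type*} [Group K] {U : Subgroup K} (h : Tr U) (k : K) : Tr (cj k U) := by
  intro g g' hg hg'
  have h1 : ∀ a : K, cj a (cj k U) ≠ cj k U → cj (k⁻¹ * a * k) U ≠ U := fun a ha h2 => ha (by
    rw [← cj_mul, show a * k = k * (k⁻¹ * a * k) by group, cj_mul, h2])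
  obtain ⟨x, hx, h2⟩ := h _ _ (h1 g hg) (h1 g' hg')
  refine ⟨k * x * k⁻¹, conj_mem_cj k hx, ?_⟩
  rw [← cj_mul, ← cj_mul, ← cj_mul, show k * x * k⁻¹ * g * k = k * (x * (k⁻¹ * g * k)) by group,
    show g' * k = k * (k⁻¹ * g' * k) by group, cj_mul, cj_mul, h2, ← cj_mul]

section quot

variable {G K : Type*} [Group G] [Group K] {E U : Subgroup G} (f : E →* K)

theorem im_cj (a : E) : ((cj (a : G) U).subgroupOf E).map f = cj (f a) ((U.subgroupOf E).map f) := by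
  rw [← map_cj]
  congr 1
  ext x
  rw [mem_subgroupOf, mem_cj, mem_cj, mem_subgroupOf]
  rfl

theorem tr_quot (hf : Function.Surjective f) (hU : U ≤ E) (h : Spl E U) : Tr ((U.subgroupOf E).map f) := by
  intro g g' hg hg'
  obtain ⟨a, rfl⟩ := hf g
  obtain ⟨a', rfl⟩ := hf g'
  rw [← im_cj] at hg hg'
  obtain ⟨x, hx, h1⟩ := h _ ⟨a, a.2, rfl⟩ (fun h1 => hg (by rw [h1])) _ ⟨a', a'.2, rfl⟩ (fun h1 => hg' (by rw [h1]))
  refine ⟨f ⟨x, hU hx⟩, ⟨⟨x, hU hx⟩, hx, rfl⟩, ?_⟩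
  rw [← cj_mul, ← map_mul, ← im_cj, ← im_cj, ← h1, ← cj_mul]
  rfl

theorem syl_quot [Finite G] {p : ℕ} [Fact p.Prime] (hf : Function.Surjective f)
    (h : ∀ P : Subgroup G, P ≤ E → IsPGroup p P → ∃ R ∈ Cjs E U, P ≤ R) {Q : Subgroup K} (hQ : IsPGroup p Q) :
    ∃ k, Q ≤ cj k ((U.subgroupOf E).map f) := by
  obtain ⟨S', hS'⟩ := hQ.exists_le_sylow
  obtain ⟨S, rfl⟩ := Sylow.mapSurjective_surjective hf p S'
  obtain ⟨_, ⟨e, he, rfl⟩, h1⟩ := h ((S : Subgroup E).map E.subtype) (map_subtype_le _) (S.isPGroup'.map _)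
  refine ⟨f ⟨e, he⟩, hS'.trans ?_⟩
  rw [← im_cj, Sylow.coe_mapSurjective]
  exact map_mono fun x hx => h1 ⟨x, hx, rfl⟩

end quot

section split

variable {K : Type*} [Group K] [Finite K] {P : BNPair K} {p : ℕ} {U : Subgroup K}

omit [Finite K] in
theorem exists_mul (h : Split P p U) (ht : Tr U) {g g' : K} (hg : g ∉ P.B) (hg' : g' ∉ P.B) :
    ∃ x ∈ U, g'⁻¹ * (x * g) ∈ P.B := by
  rw [← h.normalizer_eq] at hg hg' ⊢
  obtain ⟨x, hx, h1⟩ := ht g g' (fun h1 => hg (mem_normalizer_of_cj_eq h1)) fun h1 => hg' (mem_normalizer_of_cj_eq h1)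
  exact ⟨x, hx, mem_normalizer_of_cj_eq (by rw [cj_mul, cj_mul, h1, cj_inv_cj])⟩

omit [Finite K] in
theorem eq_single (h : Split P p U) (ht : Tr U) {s : K} (hs : s ∈ P.S) : P.S = {s} := by
  refine Set.eq_singleton_iff_unique_mem.2 ⟨hs, fun s' hs' => P.inj s' hs' s hs ?_⟩
  obtain ⟨x, hx, h1⟩ := exists_mul h ht (Schreier.BNSch.not_mem_B P hs) (Schreier.BNSch.not_mem_B P hs')
  refine (S0309.result P (P.subset hs') (P.subset hs)).1 (DoubleCoset.doubleCoset_eq_of_mem ?_)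
  exact DoubleCoset.mem_doubleCoset.2 ⟨x, h.le hx, _, inv_mem h1, by group⟩

omit [Finite K] in
theorem rank_one (h : Split P p U) (ht : Tr U) (hS : P.S.Nonempty) : P.rank = 1 := by
  obtain ⟨s, hs⟩ := hS
  rw [BNPair.rank, eq_single h ht hs]
  simp

theorem isSplit [Fact p.Prime] (h : Split P p U) : P.IsSplit := by
  refine ⟨U, h.le, h.norm, h.isP.isNilpotent, le_antisymm (sup_le h.le inf_le_left) fun b hb => ?_⟩
  obtain ⟨u, hu, t, ht, rfl⟩ := h.cover' hb
  exact mul_mem_sup hu ht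

theorem dat [IsSimpleGroup K] [hp : Fact p.Prime] (hZ : center K = ⊥) (h : Split P p U) (ht : Tr U)
    (hS : P.S.Nonempty) : Dat K p (Nat.card U) := by
  obtain ⟨s, hs⟩ := hS
  obtain ⟨V, hV⟩ := h.node s hs
  have hV0 : V = ⊥ :=
    H805.WandRankOne.node_eq_bot h (H805.WandRankOne.parabolic_eq_top (eq_single h ht hs)) hV
  have hsB := Schreier.BNSch.not_mem_B P hs
  have hi : P.B.index = Nat.card U + 1 := by
    rw [← Finite.card_option, index]
    symm
    refine Nat.card_congr (Equiv.ofBijective (fun o : Option U => o.elim ((1 : K) : K ⧸ P.B)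
      fun x => ((x * s : K) : K ⧸ P.B)) ⟨?_, ?_⟩)
    · have h1 : ∀ x : U, ((1 : K) : K ⧸ P.B) ≠ ((x * s : K) : K ⧸ P.B) := fun x h1 => by
        rw [QuotientGroup.eq, inv_one, one_mul] at h1
        exact hsB ((P.B.mul_mem_cancel_left (h.le x.2)).1 h1)
      rintro (_ | x) (_ | y) h2
      · rfl
      · exact absurd h2 (h1 y)
      · exact absurd h2.symm (h1 x)
      · have h3 : ((x : K) * s)⁻¹ * (y * s) ∈ P.B := QuotientGroup.eq.1 h2
        have h4 := hV.stab _ (mul_mem (inv_mem x.2) y.2) (by simpa only [mul_inv_rev, mul_assoc] using h3)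
        rw [hV0, mem_bot, inv_mul_eq_one] at h4
        rw [Subtype.ext h4]
    · intro c
      obtain ⟨g, rfl⟩ := QuotientGroup.mk_surjective c
      by_cases hg : g ∈ P.B
      · exact ⟨none, QuotientGroup.eq.2 (by simpa using hg)⟩
      · obtain ⟨x, hx, h1⟩ := exists_mul h ht hsB hg
        exact ⟨some ⟨x, hx⟩, (QuotientGroup.eq.2 h1).symm⟩
  obtain ⟨k, hk⟩ := IsPGroup.iff_card.1 h.isP
  have hk1 : 1 ≤ k := by
    by_contra h1
    obtain rfl : k = 0 := by omega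
    obtain ⟨u, hu, huV⟩ := hV.ne
    rw [pow_zero, card_eq_one] at hk
    exact huV (by rw [hk, mem_bot] at hu; rw [hu]; exact one_mem _)
  have h1 : Nat.card U * U.relIndex P.B = Nat.card P.B := by
    rw [← Nat.card_congr (subgroupOfEquivOfLe h.le).toEquiv]
    exact (U.subgroupOf P.B).card_mul_index
  have h2 : ¬ p ∣ U.relIndex P.B := fun h2 => by
    obtain ⟨S, hS⟩ := h.isP.exists_le_sylow
    have h3 := S.not_dvd_index
    rw [← H979.SplitAut.eq_of_le h S.isPGroup' hS, ← relIndex_mul_index h.le] at h3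
    exact h3 (h2.mul_right _)
  refine ⟨⟨k, hk1, hk⟩, ⟨P.B, fun h3 => hsB (h3 ▸ mem_top s), hi⟩, U.relIndex P.B, ?_, h2, fun r hr h3 => ?_⟩
  · rw [← P.B.card_mul_index, hi, ← h1]
    ring
  · have : Fact r.Prime := ⟨hr⟩
    obtain ⟨t, ht⟩ := exists_prime_orderOf_dvd_card' (G := P.B) r (h1 ▸ h3.mul_left _)
    have h4 : (t : K) ^ r = 1 := by rw [← coe_pow, ← ht, pow_orderOf_eq_one, coe_one]
    refine ⟨_, card_dvd_of_le inf_le_left, ?_, J3.Fix.card_subgroup_modEq hr U t h4 (h.norm t t.2)⟩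
    refine lt_of_le_of_ne (card_le_of_le inf_le_left) fun h5 => ?_
    have h6 : U ≤ centralizer {(t : K)} := inf_eq_left.1 (eq_of_le_of_card_ge inf_le_left h5.ge)
    have h7 : MulAut.conj (t : K) = 1 := by
      refine H979.SplitAut.Good.eq_one ⟨⟨r, (Nat.coprime_primes hr hp.1).2 fun h7 => h2 (h7 ▸ h3), ?_⟩,
        fun u hu => ?_⟩ h
      · rw [← map_pow, h4, map_one]
      · rw [MulAut.conj_apply, mul_inv_eq_iff_eq_mul]
        exact h6 hu _ rfl
    have h8 : (t : K) ∈ center K := mem_center_iff.2 fun g => by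
      have h9 := MulEquiv.congr_fun h7 g
      rw [MulAut.conj_apply, mul_inv_eq_iff_eq_mul] at h9
      exact h9.symm
    rw [hZ, mem_bot, OneMemClass.coe_eq_one] at h8
    rw [h8, orderOf_one] at ht
    exact hr.one_lt.ne ht

end split

end Cfsg.Agent.TH.R1Id
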