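import Cfsg.Agent.TH.R1Id.A

/-!
# S3541, `BoxR1Id`: the arithmetic (helper53)
-/

set_option autoImplicit false

namespace Cfsg.Agent.TH.R1Id

variable {p u q : ℕ}

theorem dvd_or (hp : p.Prime) {k a b : ℕ} (h : p ^ k ∣ a * b) (hab : ¬ (p ∣ a ∧ p ∣ b)) : p ^ k ∣ a ∨ p ^ k ∣ b := by
  by_cases h1 : p ∣ a
  · exact Or.inl (Nat.Coprime.dvd_of_dvd_mul_right (Nat.Coprime.pow_left _
      ((Nat.Prime.coprime_iff_not_dvd hp).2 fun h2 => hab ⟨h1, h2⟩)) h)
  · exact Or.inr (Nat.Coprime.dvd_of_dvd_mul_left (Nat.Coprime.pow_left _ ((Nat.Prime.coprime_iff_not_dvd hp).2 h1)) h)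

theorem dvd_of_not (hp : p.Prime) {k a b : ℕ} (h : p ^ k ∣ a * b) (ha : ¬ p ∣ a) : p ^ k ∣ b :=
  Nat.Coprime.dvd_of_dvd_mul_left (Nat.Coprime.pow_left _ ((Nat.Prime.coprime_iff_not_dvd hp).2 ha)) h

theorem eq_of_dvd (hp : p.Prime) {r : ℕ} (hr : r.Prime) (h : p ∣ r) : p = r := (Nat.prime_dvd_prime_iff_eq hp hr).1 h

/-- a power of `p` which divides `a (a + 2)` : `a = q - 1` -/
theorem dvd_two (hp : p.Prime) {k a : ℕ} (h : p ^ k ∣ a * (a + 2)) : p ^ k ∣ 2 * a ∨ p ^ k ∣ 2 * (a + 2) := by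
  by_cases h1 : p ∣ a ∧ p ∣ a + 2
  · obtain rfl : p = 2 := eq_of_dvd hp Nat.prime_two ((Nat.dvd_add_right h1.1).1 h1.2)
    obtain ⟨b, rfl⟩ := h1.1
    rw [show 2 * b * (2 * b + 2) = 4 * (b * (b + 1)) by ring] at h
    rcases Nat.even_or_odd' b with ⟨c, hc | hc⟩
    · left
      refine dvd_of_not hp (a := b + 1) (by rw [show (b + 1) * (2 * (2 * b)) = 4 * (b * (b + 1)) by ring]; exact h) ?_
      omega
    · right
      refine dvd_of_not hp (a := b) (by rw [show b * (2 * (2 * b + 2)) = 4 * (b * (b + 1)) by ring]; exact h) ?_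
      omega
  · rcases dvd_or hp h h1 with h2 | h2
    exacts [Or.inl (h2.mul_left 2), Or.inr (h2.mul_left 2)]

/-- `L₂(q)`, the generic case -/
theorem num_L2 (hp : p.Prime) {k a N d : ℕ} (hq : ¬ p ∣ a + 1) (ha : 3 ≤ a) (hd : d = Nat.gcd 2 a)
    (hN : N * d = (a + 1) * (a * (a + 2))) (h1 : p ^ k * (p ^ k + 1) ∣ N) (h2 : a + 1 ≤ p ^ k) : a = 3 ∧ p = 5 := by
  have h3 : p ^ k ∣ a ∨ p ^ k ∣ a + 2 := by
    have h4 : p ^ k * d ∣ (a + 1) * (a * (a + 2)) := hN ▸ Nat.mul_dvd_mul_right ((dvd_mul_right _ _).trans h1) d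
    by_cases h5 : p = 2
    · subst h5
      have h6 : d = 2 := by rw [hd]; exact Nat.gcd_eq_left (by omega)
      rw [h6, ← pow_succ] at h4
      rcases dvd_two hp (dvd_of_not hp h4 hq) with h7 | h7 <;> rw [pow_succ'] at h7
      exacts [Or.inl (Nat.dvd_of_mul_dvd_mul_left two_pos h7), Or.inr (Nat.dvd_of_mul_dvd_mul_left two_pos h7)]
    · exact dvd_or hp (dvd_of_not hp ((dvd_mul_right _ _).trans h4) hq) fun h6 =>
        h5 (eq_of_dvd hp Nat.prime_two ((Nat.dvd_add_right h6.1).1 h6.2))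
  have h4 : p ^ k = a + 2 := by
    rcases h3 with h3 | ⟨c, hc⟩
    · have := Nat.le_of_dvd (by omega) h3
      omega
    · rcases c with _ | _ | c
      · omega
      · omega
      · nlinarith
  have h5 : a + 3 ∣ (a + 1) * (a * (a + 2)) := by
    rw [← hN]
    rw [h4] at h1
    exact ((dvd_mul_left _ _).trans h1).mul_right d
  have h6 : a + 3 ∣ 6 := by
    have h7 : (a + 1) * (a * (a + 2)) + 6 = (a + 3) * (a ^ 2 + 2) := by ring
    exact (Nat.dvd_add_right h5).1 (h7 ▸ dvd_mul_right _ _)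
  have h7 := Nat.le_of_dvd (by norm_num) h6
  obtain rfl : a = 3 := by omega
  refine ⟨rfl, eq_of_dvd hp Nat.prime_five ?_⟩
  rcases k with _ | k
  · simp at h4
  · exact (show 3 + 2 = 5 from rfl) ▸ h4 ▸ dvd_pow_self p k.succ_ne_zero

/-- `U₃(q)`, the generic case -/
theorem num_U3 (hp : p.Prime) {k a N d : ℕ} (hq : ¬ p ∣ a + 1) (ha : 2 ≤ a) (hd : d = Nat.gcd 3 (a + 2))
    (hN : d * N = (a + 1) ^ 3 * ((a * (a + 2)) * ((a + 2) * (a * (a + 1) + 1)))) (h1 : p ^ k * (p ^ k + 1) ∣ N)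
    (h2 : (a + 1) ^ 3 ≤ p ^ k) : False := by
  have hq3 : ¬ p ∣ (a + 1) ^ 3 := fun h => hq (hp.dvd_of_dvd_pow h)
  have h4 : d * p ^ k ∣ (a + 1) ^ 3 * ((a * (a + 2)) * ((a + 2) * (a * (a + 1) + 1))) :=
    hN ▸ Nat.mul_dvd_mul_left d ((dvd_mul_right _ _).trans h1)
  have h5 := dvd_of_not hp ((dvd_mul_left _ _).trans h4) hq3
  by_cases h6 : p ∣ a * (a + 1) + 1
  · have h7 : ¬ p ∣ a := fun h7 => hp.one_lt.ne' (Nat.dvd_one.1 ((Nat.dvd_add_right (h7.mul_right _)).1 h6))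
    by_cases h8 : p ∣ a + 2
    · obtain ⟨b, rfl⟩ : ∃ b, a = b + 1 := ⟨a - 1, by omega⟩
      have h9 : (b + 1) * (b + 1 + 1) + 1 = (b + 1 + 2) * b + 3 := by ring
      obtain rfl : p = 3 := eq_of_dvd hp Nat.prime_three ((Nat.dvd_add_right (h8.mul_right b)).1 (h9 ▸ h6))
      obtain ⟨c, rfl⟩ : ∃ c, b = 3 * c := ⟨b / 3, by omega⟩
      rw [hd, Nat.gcd_eq_left h8, show (3 * c + 1 + 1) ^ 3 * ((3 * c + 1) * (3 * c + 1 + 2) *
        ((3 * c + 1 + 2) * ((3 * c + 1) * (3 * c + 1 + 1) + 1))) =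
        3 * ((3 * c + 1 + 1) ^ 3 * ((3 * c + 1) * ((3 * (c * (c + 1)) + 1) * (3 * c + 3) ^ 2))) by ring] at h4
      have h10 := dvd_of_not hp (dvd_of_not hp (dvd_of_not hp (Nat.dvd_of_mul_dvd_mul_left three_pos h4) hq3) h7)
        (by omega)
      have h11 := Nat.le_of_dvd (by positivity) h10
      have h12 : 1 ≤ c := by omega
      nlinarith [Nat.zero_le (c ^ 3), Nat.zero_le (c ^ 2)]
    · rw [mul_assoc] at h5
      have h9 := Nat.le_of_dvd (by positivity) (dvd_of_not hp (dvd_of_not hp (dvd_of_not hp h5 h7) h8) h8)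
      nlinarith [Nat.zero_le (a ^ 3)]
  · rw [← mul_assoc, mul_comm] at h5
    have h7 := dvd_of_not hp h5 h6
    have h8 : p ^ k ≤ 4 * a ∨ p ^ k ∣ 2 * (a + 2) ^ 2 := by
      by_cases h8 : p ∣ a ∧ p ∣ a + 2
      · obtain rfl : p = 2 := eq_of_dvd hp Nat.prime_two ((Nat.dvd_add_right h8.1).1 h8.2)
        obtain ⟨b, rfl⟩ := h8.1
        rcases Nat.even_or_odd' b with ⟨c, hc | hc⟩
        · left
          rw [show 2 * b * (2 * b + 2) * (2 * b + 2) = (b + 1) * ((b + 1) * (4 * (2 * b))) by ring] at h7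
          exact Nat.le_of_dvd (by omega) (dvd_of_not hp (dvd_of_not hp h7 (by omega)) (by omega))
        · right
          rw [show 2 * b * (2 * b + 2) * (2 * b + 2) = b * (2 * (2 * b + 2) ^ 2) by ring] at h7
          exact dvd_of_not hp h7 (by omega)
      · rw [mul_assoc] at h7
        rcases dvd_or hp h7 (fun h9 => h8 ⟨h9.1, (hp.dvd_mul.1 h9.2).elim id id⟩) with h9 | h9
        · left
          have := Nat.le_of_dvd (by omega) h9
          omega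
        · right
          rw [sq]
          exact h9.mul_left 2
    rcases h8 with h8 | h8
    · nlinarith [Nat.zero_le (a ^ 3)]
    · have h9 := Nat.le_of_dvd (by positivity) h8
      obtain rfl : a = 2 := by
        by_contra h10
        obtain ⟨b, rfl⟩ : ∃ b, a = b + 3 := ⟨a - 3, by omega⟩
        nlinarith [Nat.zero_le (b ^ 3), Nat.zero_le (b ^ 2)]
      have h10 : p ^ k = 32 := by
        obtain ⟨c, hc⟩ := h8
        rcases c with _ | _ | c
        · omega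
        · omega
        · nlinarith
      rw [h10] at h1
      norm_num at hd
      subst hd
      omega

/-- `Sz(q)` -/
theorem num_Sz (hp : p.Prime) (hp2 : p ≠ 2) {k m s : ℕ} (hq : q = 2 ^ (2 * m + 1)) (hs : s = 2 ^ (m + 1)) (hm : 1 ≤ m)
    (h1 : p ^ k ∣ q ^ 2 * (q - 1) * (q ^ 2 + 1)) (h2 : 2 * (q - 1) ≤ p ^ k + 1) : q = 8 ∧ p ^ k = 13 := by
  have hss : s * s = 2 * q := by rw [hs, hq, ← pow_add, ← pow_succ']; congr 1; omega
  have hs4 : 4 ≤ s := by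
    rw [hs]
    exact (show 4 = 2 ^ 2 from rfl) ▸ Nat.pow_le_pow_right two_pos (by omega)
  have hpq : ¬ p ∣ q ^ 2 := fun h => hp2 (eq_of_dvd hp Nat.prime_two
    (hp.dvd_of_dvd_pow (hq ▸ hp.dvd_of_dvd_pow h)))
  have hps : ¬ p ∣ 2 * s := fun h => hp2 (eq_of_dvd hp Nat.prime_two (by
    rw [hs, ← pow_succ'] at h
    exact hp.dvd_of_dvd_pow h))
  obtain ⟨e, he⟩ : ∃ e, q = s + e := Nat.exists_eq_add_of_le (by nlinarith)
  obtain ⟨a, ha⟩ : ∃ a, q = a + 1 := ⟨q - 1, by omega⟩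
  have h3 : q ^ 2 + 1 = (e + 1 + 2 * s) * (e + 1) := by rw [he] at hss ⊢; nlinarith
  have h8 : 8 ≤ q := by nlinarith
  rw [mul_assoc] at h1
  rcases dvd_or hp (dvd_of_not hp h1 hpq) (fun h => hp2 (eq_of_dvd hp Nat.prime_two (by
    rw [ha, Nat.add_sub_cancel, show (a + 1) ^ 2 + 1 = a * (a + 2) + 2 by ring] at h
    exact (Nat.dvd_add_right (h.1.mul_right _)).1 h.2))) with h4 | h4
  · have := Nat.le_of_dvd (by omega) h4
    omega
  rw [h3] at h4
  rcases dvd_or hp h4 (fun h => hps ((Nat.dvd_add_right h.2).1 h.1)) with h5 | h5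
  · have h6 := Nat.le_of_dvd (by omega) h5
    have h7 : q ≤ s + 4 := by omega
    have h9 : s = 4 := by nlinarith
    subst h9
    omega
  · have := Nat.le_of_dvd (by omega) h5
    omega

/-- `²G₂(q)` -/
theorem num_Ree (hp : p.Prime) (hp3 : p ≠ 3) {k m : ℕ} (hq : q = 3 ^ (2 * m + 1)) (hm : 1 ≤ m)
    (h1 : p ^ k * (p ^ k + 1) ∣ q ^ 3 * (q - 1) * (q ^ 3 + 1)) (h2 : q ^ 2 - q + 1 ≤ p ^ k + 1) : False := by
  have h27 : 27 ≤ q := by
    rw [hq]
    exact (show 27 = 3 ^ 3 from rfl) ▸ Nat.pow_le_pow_right three_pos (by omega)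
  have hpq : ¬ p ∣ q ^ 3 := fun h => hp3 (eq_of_dvd hp Nat.prime_three
    (hp.dvd_of_dvd_pow (hq ▸ hp.dvd_of_dvd_pow h)))
  have hodd : Odd q := hq ▸ Odd.pow (by decide)
  obtain ⟨b, rfl⟩ : ∃ b, q = b + 2 := ⟨q - 2, by omega⟩
  have e1 : (b + 2) ^ 2 - (b + 2) = (b + 1) * (b + 2) := by
    rw [show (b + 2) ^ 2 = (b + 1) * (b + 2) + (b + 2) by ring, Nat.add_sub_cancel]
  have e2 : (b + 2) ^ 3 * (b + 2 - 1) * ((b + 2) ^ 3 + 1) =
      (b + 2) ^ 3 * (((b + 1) * (b + 1 + 2)) * ((b + 1) * (b + 2) + 1)) := by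
    rw [show b + 2 - 1 = b + 1 from rfl]; ring
  rw [e1] at h2
  rw [e2] at h1
  rcases dvd_or hp (dvd_of_not hp ((dvd_mul_right _ _).trans h1) hpq) (fun h => by
    rcases hp.dvd_mul.1 h.1 with h3 | h3
    · exact hp.one_lt.ne' (Nat.dvd_one.1 ((Nat.dvd_add_right (h3.mul_right _)).1 h.2))
    · have h4 := h.2
      rw [show (b + 1) * (b + 2) + 1 = (b + 1 + 2) * b + 3 by ring] at h4
      exact hp3 (eq_of_dvd hp Nat.prime_three ((Nat.dvd_add_right (h3.mul_right b)).1 h4))) with h3 | ⟨c, hc⟩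
  · rcases dvd_two hp h3 with h4 | h4 <;> have := Nat.le_of_dvd (by omega) h4 <;> nlinarith
  · have h4 : p ^ k = (b + 1) * (b + 2) + 1 := by
      rcases c with _ | _ | c
      · omega
      · omega
      · nlinarith
    rw [h4, ← mul_assoc, mul_comm _ ((b + 1) * (b + 2) + 1)] at h1
    have h5 := Nat.dvd_of_mul_dvd_mul_left (by positivity) h1
    have h6 : Nat.Coprime ((b + 1) * (b + 2) + 1 + 1) ((b + 2) ^ 3) := by
      refine Nat.Coprime.pow_right _ ?_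
      rw [add_assoc, add_comm, Nat.coprime_add_mul_right_left]
      exact Nat.coprime_two_left.2 hodd
    have h7 := h6.dvd_of_dvd_mul_left h5
    obtain ⟨e, rfl⟩ : ∃ e, b = e + 1 := ⟨b - 1, by omega⟩
    rw [show (e + 1 + 1) * (e + 1 + 1 + 2) = ((e + 1 + 1) * (e + 1 + 2) + 1 + 1) + e by ring] at h7
    have h8 := Nat.le_of_dvd (by omega) ((Nat.dvd_add_right dvd_rfl).1 h7)
    nlinarith

end Cfsg.Agent.TH.R1Id
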